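import Groth.Agent.L22.Norm.Coker
import Groth.Agent.L01.NagataFiniteType
import Groth.Agent.L01.AnalUnram
import Groth.Agent.L06.NormalAscent
import Groth.Agent.L23.SourceReduced
import Groth.Agent.S0568
import Groth.Agent.L01.CompletionExt
import Mathlib.RingTheory.Finiteness.Descent

/-! Finiteness of normalisation read off from the completion of the base. -/

set_option autoImplicit false
set_option linter.style.haveILetI false
set_option maxHeartbeats 1000000
set_option backward.isDefEq.respectTransparency false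
set_option backward.isDefEq.respectTransparency.types false

universe u

open CategoryTheory CategoryTheory.Limits AlgebraicGeometry TensorProduct

noncomputable section

namespace Groth.L05.NormCpl

variable {A C : Type u} [CommRing A] [IsLocalRing A] [IsNoetherianRing A] [CommRing C] [IsDomain C] [Algebra A C]
  [Algebra.FiniteType A C]

omit [IsLocalRing A] [IsNoetherianRing A] [IsDomain C] [Algebra.FiniteType A C] [Algebra A C] in
theorem isSMulRegular_of_flat {T : Type u} [AddCommGroup T] [Module C T] [Module.Flat C T] {s : C}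
    (h : IsSMulRegular C s) : IsSMulRegular T s := fun p q e =>
  (TensorProduct.rid C T).symm.injective (h.lTensor T (by
    show s • (TensorProduct.rid C T).symm p = s • (TensorProduct.rid C T).symm q
    rw [← map_smul, ← map_smul]
    exact congrArg _ e))

/-- The integral closure is finite if the base change to the completion is reduced. -/
theorem finite_integralClosure_of_reduced (hred : _root_.IsReduced (C ⊗[A] EGA4.Cpl A)) :
    Module.Finite C (integralClosure C (FractionRing C)) := by
  classical
  set B := EGA4.Cpl A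
  haveI : IsNoetherianRing B := Groth.L01.AnalUnram.isNoetherianRing_completion A
  haveI : Module.FaithfullyFlat A B := Groth.L06.NormalAscent.faithfullyFlat_cpl A
  set T := C ⊗[A] B
  letI : Algebra B T := Algebra.TensorProduct.rightAlgebra
  haveI : Algebra.FiniteType B T :=
    Algebra.FiniteType.of_surjective (Algebra.TensorProduct.commRight A B C : B ⊗[A] C ≃ₐ[B] C ⊗[A] B).toAlgHom
      (Algebra.TensorProduct.commRight A B C : B ⊗[A] C ≃ₐ[B] C ⊗[A] B).surjective
  haveI : IsNoetherianRing T := Algebra.FiniteType.isNoetherianRing B T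
  have hT : CAlg.IsNagata T := Groth.L01.Nagata.isNagata_of_finiteType (R := B) (Groth.Agent.S0568.result B)
  haveI := Groth.L22.Norm.finite_integralClosure T hT
  haveI : Module.FaithfullyFlat C T := inferInstance
  let K := FractionRing C
  let C' := integralClosure C K
  let Q := FractionRing T
  have hreg : ∀ s : C, s ≠ 0 → algebraMap C T s ∈ nonZeroDivisors T := fun s hs => by
    have h1 : IsSMulRegular C s := IsLeftRegular.isSMulRegular (IsRegular.of_ne_zero hs).left
    have h2 : IsSMulRegular T s := isSMulRegular_of_flat (T := T) h1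
    refine mem_nonZeroDivisors_iff_right.2 fun t ht => h2 ?_
    show s • t = s • (0 : T)
    rw [smul_zero]
    exact (Algebra.smul_def s t).trans ((mul_comm _ _).trans ht)
  have hu : ∀ s : nonZeroDivisors C, IsUnit (algebraMap C Q s) := fun s => by
    rw [IsScalarTower.algebraMap_apply C T Q]
    exact IsLocalization.map_units (M := nonZeroDivisors T) Q ⟨_, hreg s (nonZeroDivisors.ne_zero s.2)⟩
  let σ : K →ₐ[C] Q :=
    IsLocalization.liftAlgHom (M := nonZeroDivisors C) (f := Algebra.ofId C Q) hu
  let Φ : T ⊗[C] C' →ₐ[T] Q := Algebra.TensorProduct.lift (Algebra.ofId T Q) (σ.comp C'.val) fun _ _ => Commute.all _ _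
  have hΦ : ∀ t z, Φ (t ⊗ₜ[C] z) = algebraMap T Q t * σ (C'.val z) := fun t z => Algebra.TensorProduct.lift_tmul _ _ _ t z
  have hclear : ∀ n : T ⊗[C] C', ∃ s : C, s ≠ 0 ∧ ∃ t, s • n = t ⊗ₜ[C] (1 : C') := fun n => by
    induction n using TensorProduct.induction_on with
    | zero => exact ⟨1, one_ne_zero, 0, by rw [TensorProduct.zero_tmul, smul_zero]⟩
    | tmul t z =>
      obtain ⟨c, s, hs, hz⟩ := IsFractionRing.div_surjective (A := C) (z : K)
      refine ⟨s, nonZeroDivisors.ne_zero hs, c • t, ?_⟩
      rw [← TensorProduct.tmul_smul, show s • z = c • (1 : C') from Subtype.ext ?_, TensorProduct.smul_tmul]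
      show s • (z : K) = c • (1 : K)
      rw [← hz, Algebra.smul_def, Algebra.smul_def, mul_one,
        mul_div_cancel₀ _ (IsFractionRing.to_map_ne_zero_of_mem_nonZeroDivisors hs)]
    | add a b ha hb =>
      obtain ⟨s, hs, t, ht⟩ := ha
      obtain ⟨s', hs', t', ht'⟩ := hb
      refine ⟨s * s', mul_ne_zero hs hs', s' • t + s • t', ?_⟩
      rw [smul_add, TensorProduct.add_tmul, ← TensorProduct.smul_tmul', ← TensorProduct.smul_tmul', ← ht, ← ht',
        ← mul_smul, ← mul_smul, mul_comm s']
  have hΦ0 : ∀ n, Φ n = 0 → n = 0 := fun n hn => by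
    obtain ⟨s, hs, t, ht⟩ := hclear n
    have h1 : IsSMulRegular C' s := fun p q h => Subtype.ext
      (smul_right_injective K hs (congrArg Subtype.val h))
    have h2 := h1.lTensor T
    refine h2 ?_
    show s • n = s • (0 : T ⊗[C] C')
    have h3 := congrArg Φ ht
    rw [hΦ, map_one, map_one, mul_one, ← IsScalarTower.algebraMap_smul T s n, map_smul, hn, smul_zero] at h3
    rw [smul_zero, ht, IsFractionRing.injective T Q (h3.symm.trans (map_zero _).symm), TensorProduct.zero_tmul]
  have hΦi : Function.Injective Φ := fun p q hpq => sub_eq_zero.1 (hΦ0 _ (by rw [map_sub Φ, hpq, sub_self]))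
  have hmem : ∀ n, Φ n ∈ integralClosure T Q := fun n => by
    induction n using TensorProduct.induction_on with
    | zero => rw [map_zero]; exact zero_mem _
    | tmul t z =>
      rw [hΦ]
      exact mul_mem isIntegral_algebraMap ((z.2.map σ).tower_top)
    | add a b ha hb => rw [map_add]; exact add_mem ha hb
  haveI : Module.Finite T (T ⊗[C] C') :=
    Module.Finite.of_injective (LinearMap.codRestrict (Subalgebra.toSubmodule (integralClosure T Q)) Φ.toLinearMap hmem)
      fun a b h => hΦi (congrArg Subtype.val h)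
  exact Module.Finite.of_finite_tensorProduct_of_faithfullyFlat T

omit [Algebra.FiniteType A C] in
/-- A base change to the completion with reduced local rings off the closed fibre is reduced. -/
theorem isReduced_of_off_closed
    (h : ∀ P : PrimeSpectrum (C ⊗[A] EGA4.Cpl A),
      P.asIdeal.comap (Algebra.TensorProduct.includeRight : EGA4.Cpl A →ₐ[A] C ⊗[A] EGA4.Cpl A) ≠
        IsLocalRing.maximalIdeal (EGA4.Cpl A) → _root_.IsReduced (Localization.AtPrime P.asIdeal)) :
    _root_.IsReduced (C ⊗[A] EGA4.Cpl A) := by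
  classical
  set B := EGA4.Cpl A
  haveI : IsNoetherianRing B := Groth.L01.AnalUnram.isNoetherianRing_completion A
  haveI : Module.FaithfullyFlat A B := Groth.L06.NormalAscent.faithfullyFlat_cpl A
  haveI : Module.FaithfullyFlat C (C ⊗[A] B) := inferInstance
  have hinl : Function.Injective (algebraMap C (C ⊗[A] B)) := FaithfulSMul.algebraMap_injective C (C ⊗[A] B)
  by_cases hm : ∀ a ∈ IsLocalRing.maximalIdeal A, algebraMap A C a = 0
  · have hmB : ∀ b ∈ IsLocalRing.maximalIdeal B, ∀ c : C, c ⊗ₜ[A] b = 0 := fun b hb => by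
      rw [← Groth.L01.AnalUnram.completion_map_maximalIdeal] at hb
      induction hb using Submodule.span_induction with
      | mem b hb =>
        obtain ⟨a, ha, rfl⟩ := hb
        intro c
        rw [Algebra.algebraMap_eq_smul_one, ← TensorProduct.smul_tmul, Algebra.smul_def, hm a ha, zero_mul,
          TensorProduct.zero_tmul]
      | zero => exact fun c => TensorProduct.tmul_zero _ _
      | add x y _ _ hx hy => exact fun c => by rw [TensorProduct.tmul_add, hx, hy, add_zero]
      | smul r x _ hx =>
        intro c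
        rw [smul_eq_mul, show c ⊗ₜ[A] (r * x) = (c ⊗ₜ[A] r) * ((1 : C) ⊗ₜ[A] x) by
          rw [Algebra.TensorProduct.tmul_mul_tmul, mul_one], hx, mul_zero]
    have hsurj : Function.Surjective (algebraMap C (C ⊗[A] B)) := fun t => by
      induction t using TensorProduct.induction_on with
      | zero => exact ⟨0, map_zero _⟩
      | tmul c b =>
        obtain ⟨r, hr⟩ := Groth.L01.CompletionExt.exists_sub_mem_pow 1 b
        rw [pow_one] at hr
        refine ⟨r • c, ?_⟩
        rw [Algebra.TensorProduct.algebraMap_apply, Algebra.algebraMap_self, RingHom.id_apply]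
        rw [show c ⊗ₜ[A] b = c ⊗ₜ[A] algebraMap A B r + c ⊗ₜ[A] (b - algebraMap A B r) by
          rw [← TensorProduct.tmul_add, add_sub_cancel], hmB _ hr, add_zero, Algebra.algebraMap_eq_smul_one,
          TensorProduct.smul_tmul]
      | add x y hx hy =>
        obtain ⟨c, hc⟩ := hx
        obtain ⟨d, hd⟩ := hy
        exact ⟨c + d, by rw [map_add, hc, hd]⟩
    exact isReduced_of_injective (RingEquiv.ofBijective _ ⟨hinl, hsurj⟩).symm.toRingHom (RingEquiv.injective _)
  push Not at hm
  obtain ⟨a, ha, hna⟩ := hm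
  refine ⟨fun t ht => ?_⟩
  have hP : ∀ P : PrimeSpectrum (C ⊗[A] B), P.asIdeal.comap (Algebra.TensorProduct.includeRight : B →ₐ[A] C ⊗[A] B) ≠
      IsLocalRing.maximalIdeal B → ¬ Module.annihilator (C ⊗[A] B) (Ideal.span {t}) ≤ P.asIdeal := fun P hP hle => by
    haveI := h P hP
    have h0 : algebraMap _ (Localization.AtPrime P.asIdeal) t = 0 := (ht.map _).eq_zero
    obtain ⟨u, hu⟩ := (IsLocalization.map_eq_zero_iff P.asIdeal.primeCompl _ _).1 h0
    refine u.2 (hle (Module.mem_annihilator.2 fun m => Subtype.ext ?_))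
    obtain ⟨v, hv⟩ := Ideal.mem_span_singleton'.1 m.2
    show (u : C ⊗[A] B) * m.1 = 0
    rw [← hv, mul_left_comm, hu, mul_zero]
  have hrad : algebraMap C (C ⊗[A] B) (algebraMap A C a) ∈
      (Module.annihilator (C ⊗[A] B) (Ideal.span {t})).radical := by
    rw [Ideal.radical_eq_sInf]
    refine Submodule.mem_sInf.2 fun P hPm => ?_
    have hmax := not_not.1 fun hne => hP ⟨P, hPm.2⟩ hne hPm.1
    have h1 : algebraMap A B a ∈ IsLocalRing.maximalIdeal B := by
      rw [← Groth.L01.AnalUnram.completion_map_maximalIdeal]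
      exact Ideal.mem_map_of_mem _ ha
    rw [← hmax, Ideal.mem_comap] at h1
    rw [← IsScalarTower.algebraMap_apply A C (C ⊗[A] B)]
    simpa using h1
  obtain ⟨k, hk⟩ := hrad
  have h2 : (algebraMap A C a ^ k) • t = 0 := by
    refine (Algebra.smul_def (A := C ⊗[A] B) (algebraMap A C a ^ k) t).trans ?_
    rw [map_pow]
    exact congrArg Subtype.val (Module.mem_annihilator.1 hk ⟨t, Ideal.mem_span_singleton_self t⟩)
  have h1 : IsSMulRegular C (algebraMap A C a ^ k) :=
    IsLeftRegular.isSMulRegular (IsRegular.of_ne_zero (pow_ne_zero k hna)).left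
  exact isSMulRegular_of_flat h1 (T := C ⊗[A] B) (h2.trans (smul_zero _).symm)

omit [IsLocalRing A] [IsNoetherianRing A] [IsDomain C] [Algebra.FiniteType A C] in
/-- Reducedness spreads along an injection. -/
theorem isReduced_of_algHom {B C' : Type u} [CommRing B] [Algebra A B] [Module.Flat A B] [CommRing C'] [Algebra A C']
    (ρ : C →ₐ[A] C') (hρ : Function.Injective ρ) (h : _root_.IsReduced (C' ⊗[A] B)) : _root_.IsReduced (C ⊗[A] B) :=
  isReduced_of_injective (Algebra.TensorProduct.map ρ (AlgHom.id A B)).toRingHom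
    (Module.Flat.rTensor_preserves_injective_linearMap ρ.toLinearMap hρ)

section Scheme

/-- The normalisation is finite if on every affine open the base change to the completion is reduced. -/
theorem isFinite_normalizationι {A : Type u} [CommRing A] [IsLocalRing A] [IsNoetherianRing A]
    (X : Scheme.{u}) [IsIntegral X] (f : X ⟶ Spec (CommRingCat.of A)) [LocallyOfFiniteType f]
    [QuasiCompact (X.fromSpecStalk (genericPoint X))] [QuasiSeparated (X.fromSpecStalk (genericPoint X))]
    (h : ∀ (U : X.Opens) (hU : IsAffineOpen U) (_ : (U : Set X).Nonempty) (φ : A →+* Γ(X, U)),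
      hU.fromSpec ≫ f = Spec.map (CommRingCat.ofHom φ) →
      (letI := φ.toAlgebra; _root_.IsReduced (Γ(X, U) ⊗[A] EGA4.Cpl A))) :
    IsFinite (Curv2.normalizationι X) := by
  haveI : IsIntegralHom (Curv2.normalizationι X) :=
    inferInstanceAs (IsIntegralHom (X.fromSpecStalk (genericPoint X)).fromNormalization)
  refine { toIsAffineHom := inferInstance, finite_app := fun {U} hU => ?_ }
  by_cases hne : (U : Set X).Nonempty
  · haveI : Nonempty U := hne.to_subtype
    let φ : A →+* Γ(X, U) := ((Scheme.ΓSpecIso (CommRingCat.of A)).inv ≫ f.appLE ⊤ U (fun _ _ => trivial)).hom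
    have hφ : hU.fromSpec ≫ f = Spec.map (CommRingCat.ofHom φ) := by
      rw [← IsAffineOpen.SpecMap_appLE_fromSpec f (isAffineOpen_top _) hU (fun _ _ => trivial),
        IsAffineOpen.fromSpec_top, Scheme.isoSpec_Spec_inv, ← Spec.map_comp]
      rfl
    letI := φ.toAlgebra
    haveI : Algebra.FiniteType A Γ(X, U) := by
      haveI : LocallyOfFiniteType (Spec.map (CommRingCat.ofHom φ)) := by rw [← hφ]; infer_instance
      exact (HasRingHomProperty.Spec_iff (P := @LocallyOfFiniteType)).1 this
    haveI := finite_integralClosure_of_reduced (h U hU hne φ hφ)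
    letI : Algebra Γ(X, U) Γ(Curv2.normalization X, Curv2.normalizationι X ⁻¹ᵁ U) :=
      ((Curv2.normalizationι X).app U).hom.toAlgebra
    obtain ⟨κ, hT, hIC⟩ := Groth.L22.Norm.exists_isIntegralClosure X hU hne
    letI := κ.toAlgebra
    haveI := hT; haveI := hIC
    haveI : IsFractionRing Γ(X, U) X.functionField :=
      functionField_isFractionRing_of_isAffineOpen X U hU
    haveI : IsNoetherianRing Γ(X, U) := Algebra.FiniteType.isNoetherianRing A Γ(X, U)
    let e : X.functionField ≃ₐ[Γ(X, U)] FractionRing Γ(X, U) :=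
      IsLocalization.algEquiv (nonZeroDivisors Γ(X, U)) _ _
    let g : Γ(Curv2.normalization X, Curv2.normalizationι X ⁻¹ᵁ U) →ₗ[Γ(X, U)]
        integralClosure Γ(X, U) (FractionRing Γ(X, U)) :=
      LinearMap.codRestrict (Subalgebra.toSubmodule (integralClosure Γ(X, U) (FractionRing Γ(X, U))))
        (e.toLinearMap ∘ₗ (IsScalarTower.toAlgHom Γ(X, U) _ X.functionField).toLinearMap)
        fun b => (IsIntegralClosure.isIntegral Γ(X, U) X.functionField b).map
          (e.toAlgHom.comp (IsScalarTower.toAlgHom Γ(X, U)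
            Γ(Curv2.normalization X, Curv2.normalizationι X ⁻¹ᵁ U) X.functionField))
    exact Module.Finite.of_injective g fun a b h =>
      IsIntegralClosure.algebraMap_injective _ Γ(X, U) X.functionField
        (e.injective (congrArg Subtype.val h))
  · haveI : Subsingleton Γ(Curv2.normalization X, Curv2.normalizationι X ⁻¹ᵁ U) := by
      rw [show Curv2.normalizationι X ⁻¹ᵁ U = ⊥ from TopologicalSpace.Opens.ext
        (Set.eq_empty_of_forall_notMem fun y hy => hne ⟨_, hy⟩)]
      infer_instance
    exact RingHom.Finite.of_surjective _ fun z => ⟨0, Subsingleton.elim _ _⟩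

/-- The local rings of an affine piece of the base change to the completion. -/
theorem exists_stalk_equiv {A : Type u} [CommRing A] [IsLocalRing A] {X : Scheme.{u}} (f : X ⟶ Spec (CommRingCat.of A))
    {V : X.Opens} (hV : IsAffineOpen V) (φ : A →+* Γ(X, V)) (hφ : hV.fromSpec ≫ f = Spec.map (CommRingCat.ofHom φ)) :
    letI := φ.toAlgebra
    ∀ P : PrimeSpectrum (Γ(X, V) ⊗[A] EGA4.Cpl A), ∃ y : ↥(Curv2.bcCpl A f),
      ((Curv2.bcCplSnd A f).base y).asIdeal =
          P.asIdeal.comap (Algebra.TensorProduct.includeRight : EGA4.Cpl A →ₐ[A] Γ(X, V) ⊗[A] EGA4.Cpl A) ∧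
        Nonempty (Localization.AtPrime P.asIdeal ≃+* (Curv2.bcCpl A f).presheaf.stalk y) := by
  letI := φ.toAlgebra
  intro P
  let β := Spec.map (CommRingCat.ofHom (algebraMap A (EGA4.Cpl A)))
  let inl := CommRingCat.ofHom (Algebra.TensorProduct.includeLeftRingHom : Γ(X, V) →+* Γ(X, V) ⊗[A] EGA4.Cpl A)
  let inr := CommRingCat.ofHom
    (Algebra.TensorProduct.includeRight : EGA4.Cpl A →ₐ[A] Γ(X, V) ⊗[A] EGA4.Cpl A).toRingHom
  have hT : IsPullback (Spec.map inl) (Spec.map inr) (hV.fromSpec ≫ f) β := by
    rw [hφ]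
    exact isPullback_SpecMap_of_isPushout _ _ _ _ (CommRingCat.isPushout_tensorProduct A Γ(X, V) (EGA4.Cpl A))
  let k : Spec (CommRingCat.of (Γ(X, V) ⊗[A] EGA4.Cpl A)) ⟶ Curv2.bcCpl A f :=
    pullback.lift (Spec.map inl ≫ hV.fromSpec) (Spec.map inr) (by rw [Category.assoc]; exact hT.w)
  have hk : IsPullback (Spec.map inl) k hV.fromSpec (pullback.fst f β) := by
    refine IsPullback.of_bot (v₂₁ := pullback.snd f β) (v₂₂ := f) ?_ (pullback.lift_fst _ _ _).symm
      (IsPullback.of_hasPullback f β)
    rw [pullback.lift_snd]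
    exact hT
  haveI : IsOpenImmersion k := MorphismProperty.of_isPullback hk inferInstance
  refine ⟨k P, ?_, ⟨((Spec.stalkIso (CommRingCat.of (Γ(X, V) ⊗[A] EGA4.Cpl A)) P).commRingCatIsoToRingEquiv.symm).trans
    (asIso (k.stalkMap P)).commRingCatIsoToRingEquiv.symm⟩⟩
  show (pullback.snd f β (k P)).asIdeal = _
  rw [← Scheme.Hom.comp_apply, pullback.lift_snd]
  rfl

/-- The base change to the completion of a generically étale affine piece is reduced. -/
theorem isReduced_tensor_of_etale {A : Type u} [CommRing A] [IsLocalRing A] [IsNoetherianRing A]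
    [_root_.IsReduced (EGA4.Cpl A)] {X : Scheme.{u}} [IsIntegral X] (f : X ⟶ Spec (CommRingCat.of A))
    {U W : X.Opens} [Etale (U.ι ≫ f)] (hU : genericPoint X ∈ U) (hW : IsAffineOpen W) (hne : (W : Set X).Nonempty)
    (φ : A →+* Γ(X, W)) (hφ : hW.fromSpec ≫ f = Spec.map (CommRingCat.ofHom φ)) :
    (letI := φ.toAlgebra; _root_.IsReduced (Γ(X, W) ⊗[A] EGA4.Cpl A)) := by
  letI := φ.toAlgebra
  haveI : Module.FaithfullyFlat A (EGA4.Cpl A) := Groth.L06.NormalAscent.faithfullyFlat_cpl A
  obtain ⟨V, hV, hηV, hle⟩ := exists_isAffineOpen_mem_and_subset (x := genericPoint X) (U := U ⊓ W)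
    ⟨hU, Groth.L22.Norm.genericPoint_mem X hne⟩
  have hVU : V ≤ U := fun z hz => (hle hz).1
  have hVW : V ≤ W := fun z hz => (hle hz).2
  haveI : Nonempty V := ⟨⟨_, hηV⟩⟩
  haveI : Nonempty W := hne.to_subtype
  let r : Γ(X, W) →+* Γ(X, V) := (X.presheaf.map (homOfLE hVW).op).hom
  let ψ : A →+* Γ(X, V) := r.comp φ
  have hψ : hV.fromSpec ≫ f = Spec.map (CommRingCat.ofHom ψ) := by
    rw [← hW.map_fromSpec hV (homOfLE hVW).op, Category.assoc, hφ, ← Spec.map_comp]
    rfl
  haveI : Etale (Spec.map (CommRingCat.ofHom ψ)) := by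
    rw [← hψ, ← IsAffineOpen.isoSpec_inv_ι, ← X.homOfLE_ι hVU]
    simp only [Category.assoc]
    infer_instance
  letI := ψ.toAlgebra
  let ρ : Γ(X, W) →ₐ[A] Γ(X, V) := { r with commutes' := fun _ => rfl }
  refine isReduced_of_algHom ρ (map_injective_of_isIntegral X (homOfLE hVW)) ?_
  haveI : Etale (pullback.snd (Spec.map (CommRingCat.ofHom ψ))
      (Spec.map (CommRingCat.ofHom (algebraMap A (EGA4.Cpl A))))) := inferInstance
  haveI : IsReduced (pullback (Spec.map (CommRingCat.ofHom ψ))
      (Spec.map (CommRingCat.ofHom (algebraMap A (EGA4.Cpl A))))) :=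
    Groth.L23.isReduced_of_etale (pullback.snd _ _)
  haveI : IsReduced (Spec (CommRingCat.of (Γ(X, V) ⊗[A] EGA4.Cpl A))) :=
    isReduced_of_isOpenImmersion (pullbackSpecIso A Γ(X, V) (EGA4.Cpl A)).inv
  exact (affine_isReduced_iff (CommRingCat.of (Γ(X, V) ⊗[A] EGA4.Cpl A))).1 inferInstance

end Scheme

end Groth.L05.NormCpl
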